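import Mathlib

/-!
# A unit matrix over `ℤ_p` conjugate to a power of itself is unipotent

If `T ≡ 1` modulo `p ^ 2` and `g T g⁻¹ = T ^ c` (read modulo every power of `p`) for a `p`-adic
`c ≡ 1` modulo `p ^ 2`, `c ≠ 1`, then `T - 1` is nilpotent.
-/

set_option autoImplicit false
set_option linter.style.haveILetI false

open Polynomial

namespace GrothMonoLib

theorem isNilpotent_of_trace_pow_eq_zero {K : Type*} [Field K] [CharZero K] {m : Type*} [Fintype m]
    [DecidableEq m] (A : Matrix m m K) (h : ∀ i : ℕ, 0 < i → (A ^ i).trace = 0) : IsNilpotent A := by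
  obtain ⟨r, hr, hnd⟩ := A.charpoly.exists_eq_pow_rootMultiplicity_mul_and_not_dvd
    A.charpoly_monic.ne_zero 0
  set a := A.charpoly.rootMultiplicity 0
  rw [map_zero, sub_zero] at hr hnd
  have hco : IsCoprime (X ^ (a + 1) : K[X]) r := (irreducible_X.coprime_iff_not_dvd.2 hnd).pow_left
  obtain ⟨u, v, huv⟩ := hco
  have he : (aeval A) (u * X ^ (a + 1)) * (aeval A) (u * X ^ (a + 1)) = (aeval A) (u * X ^ (a + 1)) := by
    have h0 : (aeval A) (u * X ^ (a + 1)) * (aeval A) (v * r) = 0 := by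
      rw [← map_mul, show u * X ^ (a + 1) * (v * r) = u * v * X * A.charpoly by rw [hr]; ring,
        map_mul, Matrix.aeval_self_charpoly, mul_zero]
    have h1 : (aeval A) (u * X ^ (a + 1)) + (aeval A) (v * r) = 1 := by
      rw [← map_add, huv, map_one]
    calc (aeval A) (u * X ^ (a + 1)) * (aeval A) (u * X ^ (a + 1))
        = (aeval A) (u * X ^ (a + 1)) * ((aeval A) (u * X ^ (a + 1)) + (aeval A) (v * r)) := by
          rw [mul_add, h0, add_zero]
      _ = _ := by rw [h1, mul_one]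
  have htr : ((aeval A) (u * X ^ (a + 1))).trace = 0 := by
    induction u using Polynomial.induction_on' with
    | add p q hp hq =>
      rw [add_mul, map_add, Matrix.trace_add]
      have key : ∀ w : K[X], ((aeval A) (w * X ^ (a + 1))).trace = 0 := by
        intro w
        induction w using Polynomial.induction_on' with
        | add p q hp hq => rw [add_mul, map_add, Matrix.trace_add, hp, hq, add_zero]
        | monomial k c =>
          rw [monomial_mul_X_pow, aeval_monomial, ← Algebra.smul_def, Matrix.trace_smul,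
            h _ (by omega), smul_zero]
      rw [key, key, add_zero]
    | monomial k c =>
      rw [monomial_mul_X_pow, aeval_monomial, ← Algebra.smul_def, Matrix.trace_smul,
        h _ (by omega), smul_zero]
  have he0 : (aeval A) (u * X ^ (a + 1)) = 0 := by
    have hidem : IsIdempotentElem (Matrix.toLin' ((aeval A) (u * X ^ (a + 1)))) := by
      show _ * _ = _
      rw [Module.End.mul_eq_comp, ← Matrix.toLin'_mul, he]
    refine Matrix.toLin'.injective ?_
    rw [map_zero]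
    refine LinearMap.IsIdempotentElem.eq_zero_of_trace_eq_zero hidem ?_
    rw [Matrix.trace_toLin'_eq]
    exact htr
  refine ⟨a, ?_⟩
  have h1 : (aeval A) (v * r) = 1 := by
    rw [← map_one (aeval (R := K) A), ← huv, map_add, he0, zero_add]
  calc A ^ a = A ^ a * (aeval A) (v * r) := by rw [h1, mul_one]
    _ = (aeval A) (v * A.charpoly) := by
      rw [← aeval_X_pow (R := K) (x := A), ← map_mul]
      congr 1
      rw [hr]; ring
    _ = 0 := by rw [map_mul, Matrix.aeval_self_charpoly, mul_zero]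

variable {p : ℕ} [hp : Fact p.Prime] {n : ℕ}

local notation "M" => Matrix (Fin n) (Fin n) ℤ_[p]

theorem pow_dvd_iff (N : ℕ) (x : M) :
    (p : M) ^ N ∣ x ↔ ∀ i j, (p : ℤ_[p]) ^ N ∣ x i j := by
  have hcast : (p : M) ^ N = ((p : ℤ_[p]) ^ N) • (1 : M) := by
    rw [← Nat.cast_pow, ← Nat.cast_pow, Nat.cast_smul_eq_nsmul, nsmul_one]
  constructor
  · rintro ⟨y, rfl⟩ i j
    exact ⟨y i j, by rw [hcast, smul_one_mul]; rfl⟩
  · intro h
    choose y hy using h
    refine ⟨Matrix.of y, ?_⟩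
    rw [hcast, smul_one_mul]
    ext i j
    exact hy i j

theorem eq_of_pow_mul_eq (N : ℕ) {x y : M} (h : (p : M) ^ N * x = (p : M) ^ N * y) : x = y := by
  have hcast : (p : M) ^ N = ((p : ℤ_[p]) ^ N) • (1 : M) := by
    rw [← Nat.cast_pow, ← Nat.cast_pow, Nat.cast_smul_eq_nsmul, nsmul_one]
  rw [hcast, smul_one_mul, smul_one_mul] at h
  ext i j
  have := congrFun (congrFun h i) j
  simp only [Matrix.smul_apply, smul_eq_mul] at this
  exact mul_left_cancel₀ (pow_ne_zero _ (Nat.cast_ne_zero.2 hp.out.ne_zero)) this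

theorem exists_log (T : M) (hT : (p : M) ^ 2 ∣ T - 1) (N : ℕ) :
    ∃ U : M, Commute T U ∧ (p : M) ∣ U - 1 ∧ T ^ p ^ N - 1 = (p : M) ^ N * ((T - 1) * U) := by
  induction N with
  | zero => exact ⟨1, Commute.one_right _, by simp, by simp⟩
  | succ N ih =>
    obtain ⟨U, hc, hU, he⟩ := ih
    obtain ⟨V, hV⟩ : (p : M) ^ 2 ∣ T ^ p ^ N - 1 := by
      obtain ⟨X, hX⟩ := hT
      refine ⟨(p : M) ^ N * (X * U), ?_⟩
      rw [he, hX, ← mul_assoc, ← mul_assoc, ← mul_assoc, ← mul_assoc,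
        ((Nat.cast_commute p ((p : M) ^ N)).pow_left 2).eq]
    set S := ∑ j ∈ Finset.range p, (T ^ p ^ N) ^ j
    obtain ⟨W, hW⟩ : (p : M) ^ 2 ∣ S - (p : M) := by
      have : S - (p : M) = ∑ j ∈ Finset.range p, ((T ^ p ^ N) ^ j - 1) := by
        rw [Finset.sum_sub_distrib]; simp [S]
      rw [this]
      refine Finset.dvd_sum fun j _ => ⟨V * ∑ i ∈ Finset.range j, (T ^ p ^ N) ^ i, ?_⟩
      rw [← mul_assoc, ← hV, mul_geom_sum]
    have hS : S = (p : M) * (1 + (p : M) * W) := by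
      rw [mul_add, mul_one, ← mul_assoc, ← pow_two, ← hW]; abel
    have hTF : Commute T (1 + (p : M) * W) := by
      have h1 : Commute T ((p : M) * (1 + (p : M) * W)) := by
        rw [← hS]; exact Commute.sum_right _ _ _ fun j _ => ((Commute.refl T).pow_right _).pow_right j
      refine eq_of_pow_mul_eq 1 ?_
      rw [pow_one, ← mul_assoc (p : M) T, (Nat.cast_commute p T).eq, mul_assoc, h1.eq, mul_assoc]
    refine ⟨U * (1 + (p : M) * W), hc.mul_right hTF, ?_, ?_⟩
    · obtain ⟨U', hU'⟩ := hU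
      refine ⟨U' + U * W, ?_⟩
      rw [mul_add (p : M), ← hU', mul_add, mul_one, ← mul_assoc U, ← (Nat.cast_commute p U).eq,
        mul_assoc]
      abel
    · rw [pow_succ, pow_mul, ← mul_geom_sum (T ^ p ^ N) p, he]
      show (p : M) ^ N * ((T - 1) * U) * S = _
      rw [hS, mul_assoc ((p : M) ^ N), ← mul_assoc ((T - 1) * U),
        ← (Nat.cast_commute p ((T - 1) * U)).eq, pow_succ]
      simp only [mul_assoc]

theorem one_add_pow_eq (A : M) (d : ℕ) : ∃ R : M, (1 + A) ^ d = 1 + (d : M) * A + A * A * R := by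
  induction d with
  | zero => exact ⟨0, by simp⟩
  | succ d ih =>
    obtain ⟨R, hR⟩ := ih
    refine ⟨(d : M) + R * (1 + A), ?_⟩
    rw [pow_succ, hR, Nat.cast_succ]
    have : A * A * (d : M) = (d : M) * A * A := by
      rw [← (Nat.cast_commute d (A * A)).eq, mul_assoc]
    simp only [mul_add, add_mul, mul_one, one_mul, ← mul_assoc, this]
    abel

theorem eq_one_of_pow_eq_one {c : ℤ_[p]} (hc : (p : ℤ_[p]) ^ 2 ∣ c - 1) {i : ℕ} (hi : 0 < i)
    (h : c ^ i = 1) : c = 1 := by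
  obtain ⟨a, i', hi', rfl⟩ := Nat.exists_eq_pow_mul_and_not_dvd hi.ne' p hp.out.ne_one
  clear hi
  induction a generalizing c with
  | zero =>
    rw [pow_zero, one_mul] at h
    have h1 : (c - 1) * ∑ j ∈ Finset.range i', c ^ j = 0 := by rw [mul_geom_sum, h, sub_self]
    rcases mul_eq_zero.1 h1 with h2 | h2
    · exact sub_eq_zero.1 h2
    exfalso
    have h3 : c - 1 ∣ ∑ j ∈ Finset.range i', (c ^ j - 1) :=
      Finset.dvd_sum fun j _ => sub_one_dvd_pow_sub_one c j
    rw [Finset.sum_sub_distrib, h2, zero_sub, dvd_neg] at h3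
    simp only [Finset.sum_const, Finset.card_range, nsmul_eq_mul, mul_one] at h3
    have h4 : (p : ℤ_[p]) ^ 1 ∣ ((i' : ℤ) : ℤ_[p]) := by
      rw [pow_one, Int.cast_natCast]; exact ((dvd_pow_self _ two_ne_zero).trans hc).trans h3
    rw [← Ideal.mem_span_singleton, ← PadicInt.norm_le_pow_iff_mem_span_pow,
      PadicInt.norm_int_le_pow_iff_dvd] at h4
    exact hi' (by simpa [Int.natCast_dvd_natCast] using h4)
  | succ a ih =>
    have h1 : c ^ p = 1 := ih (hc.trans (sub_one_dvd_pow_sub_one c p)) (by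
      rw [← pow_mul, ← mul_assoc, ← pow_succ']; exact h)
    have h1' : (c - 1) * ∑ j ∈ Finset.range p, c ^ j = 0 := by rw [mul_geom_sum, h1, sub_self]
    rcases mul_eq_zero.1 h1' with h2 | h2
    · exact sub_eq_zero.1 h2
    exfalso
    have h3 : (p : ℤ_[p]) ^ 2 ∣ ∑ j ∈ Finset.range p, (c ^ j - 1) :=
      Finset.dvd_sum fun j _ => hc.trans (sub_one_dvd_pow_sub_one c j)
    rw [Finset.sum_sub_distrib, h2, zero_sub, dvd_neg] at h3
    simp only [Finset.sum_const, Finset.card_range, nsmul_eq_mul, mul_one] at h3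
    obtain ⟨y, hy⟩ := h3
    have : (1 : ℤ_[p]) = p * y :=
      mul_left_cancel₀ (Nat.cast_ne_zero.2 hp.out.ne_zero) (by rw [mul_one, ← mul_assoc, ← pow_two]; exact hy)
    exact PadicInt.p_nonunit (p := p) (IsUnit.of_mul_eq_one _ this.symm)

/-- A matrix conjugate to its `c`-th power is unipotent. -/
theorem isNilpotent_of_conj (g : Mˣ) (T : M) (hT : (p : M) ^ 2 ∣ T - 1) (c : ℤ_[p])
    (hc : (p : ℤ_[p]) ^ 2 ∣ c - 1) (hc1 : c ≠ 1)
    (h : ∀ N : ℕ, ∃ d : ℕ, (p : ℤ_[p]) ^ N ∣ (d : ℤ_[p]) - c ∧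
      (p : M) ^ N ∣ (g : M) * T * (↑g⁻¹ : M) - T ^ d) :
    IsNilpotent (T - 1) := by
  set X := T - 1
  let σ : M → M := fun U => (g : M) * (X * U) * (↑g⁻¹ : M) - c • (X * U)
  let B : Set M := {U | (p : M) ∣ U - 1 ∧ Commute T U}
  let F : ℕ → Set M := fun N => {U | U ∈ B ∧ (p : M) ^ N ∣ σ U}
  haveI : CompactSpace M := inferInstanceAs (CompactSpace (Fin n → Fin n → ℤ_[p]))
  haveI : T2Space M := inferInstanceAs (T2Space (Fin n → Fin n → ℤ_[p]))
  have hdvd_closed : ∀ (N : ℕ), IsClosed {x : M | (p : M) ^ N ∣ x} := by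
    intro N
    have : {x : M | (p : M) ^ N ∣ x} = Set.range fun y : M => (p : M) ^ N * y := by
      ext x; exact ⟨fun ⟨y, hy⟩ => ⟨y, hy.symm⟩, fun ⟨y, hy⟩ => ⟨y, hy.symm⟩⟩
    rw [this]
    exact (isCompact_range (continuous_const.mul continuous_id)).isClosed
  have hBc : IsClosed B := by
    refine IsClosed.inter ?_ (isClosed_eq (continuous_const.mul continuous_id)
      (continuous_id.mul continuous_const))
    have := (hdvd_closed 1).preimage (f := fun U : M => U - 1) (continuous_id.sub continuous_const)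
    simp only [pow_one, Set.preimage] at this
    exact this
  have hFc : ∀ N, IsClosed (F N) := fun N => hBc.inter ((hdvd_closed N).preimage
    (by fun_prop : Continuous σ))
  have hFne : ∀ N, (F N).Nonempty := by
    intro N
    obtain ⟨U, hUc, hU, he⟩ := exists_log T hT N
    refine ⟨U, ⟨hU, hUc⟩, ?_⟩
    obtain ⟨d, hd, ⟨E, hE⟩⟩ := h (N + N)
    obtain ⟨R, hR⟩ := one_add_pow_eq (T ^ p ^ N - 1) d
    rw [add_sub_cancel] at hR
    have hconj : ∀ k : ℕ, ((g : M) * T * (↑g⁻¹ : M)) ^ k = (g : M) * T ^ k * (↑g⁻¹ : M) := fun k => by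
      rw [Units.conj_pow]
    obtain ⟨E', hE'⟩ : (p : M) ^ (N + N) ∣
        (g : M) * T ^ p ^ N * (↑g⁻¹ : M) - (T ^ p ^ N) ^ d := by
      rw [← hconj, ← pow_mul, mul_comm (p ^ N), pow_mul]
      have h1 : (g : M) * T * (↑g⁻¹ : M) = T ^ d + (p : M) ^ (N + N) * E := by rw [← hE]; abel
      generalize p ^ N = k
      induction k with
      | zero => simp
      | succ k ih =>
        obtain ⟨E₁, hE₁⟩ := ih
        have h2 : ((g : M) * T * (↑g⁻¹ : M)) ^ k = (T ^ d) ^ k + (p : M) ^ (N + N) * E₁ := by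
          rw [← hE₁]; abel
        refine ⟨(T ^ d) ^ k * E + E₁ * T ^ d + E₁ * ((p : M) ^ (N + N) * E), ?_⟩
        rw [pow_succ, pow_succ, h2, h1]
        simp only [add_mul, mul_add, ← mul_assoc]
        rw [((Nat.cast_commute p ((T ^ d) ^ k)).pow_left (N + N)).eq]
        abel
    set A := T ^ p ^ N - 1 with hA
    set Y := X * U with hY
    have h3 : (p : M) ^ N * ((g : M) * Y * (↑g⁻¹ : M) - (d : M) * Y) =
        (p : M) ^ N * ((p : M) ^ N * (E' + Y * Y * R)) := by
      have hAY : A = (p : M) ^ N * Y := he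
      have h4 : (g : M) * A * (↑g⁻¹ : M) = (g : M) * T ^ p ^ N * (↑g⁻¹ : M) - 1 := by
        rw [hA, mul_sub, sub_mul, mul_one, Units.mul_inv]
      have h5 : (g : M) * A * (↑g⁻¹ : M) - (d : M) * A = A * A * R + (p : M) ^ (N + N) * E' := by
        rw [h4, ← hE', hR]; abel
      have hgp : ∀ Z : M, Z * (p : M) ^ N = (p : M) ^ N * Z := fun Z =>
        ((Nat.cast_commute p Z).pow_left N).eq.symm
      have h6 : (g : M) * A * (↑g⁻¹ : M) = (p : M) ^ N * ((g : M) * Y * (↑g⁻¹ : M)) := by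
        rw [hAY, ← mul_assoc (g : M), hgp, mul_assoc ((p : M) ^ N), mul_assoc ((p : M) ^ N)]
      have h7 : (d : M) * A = (p : M) ^ N * ((d : M) * Y) := by
        rw [hAY, ← mul_assoc (d : M), hgp, mul_assoc]
      have h8 : A * A * R = (p : M) ^ N * ((p : M) ^ N * (Y * Y * R)) := by
        rw [hAY, mul_assoc ((p : M) ^ N) Y, ← mul_assoc Y ((p : M) ^ N), hgp]
        simp only [mul_assoc]
      rw [mul_sub, ← h6, ← h7, h5, h8, pow_add, mul_assoc ((p : M) ^ N), mul_add ((p : M) ^ N) E',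
        mul_add ((p : M) ^ N)]
      abel
    obtain ⟨D, hD⟩ : (p : M) ^ N ∣ (d : M) - c • (1 : M) := by
      obtain ⟨e, he'⟩ := (pow_dvd_pow (p : ℤ_[p]) (Nat.le_add_right N N)).trans hd
      refine ⟨e • 1, ?_⟩
      rw [mul_smul_comm, mul_one, ← Nat.cast_pow, ← nsmul_one d, ← nsmul_one (p ^ N),
        ← Nat.cast_smul_eq_nsmul ℤ_[p] d, ← Nat.cast_smul_eq_nsmul ℤ_[p] (p ^ N), ← sub_smul,
        smul_smul, Nat.cast_pow, he', mul_comm]
    refine ⟨E' + Y * Y * R + D * Y, ?_⟩
    show (g : M) * Y * (↑g⁻¹ : M) - c • Y = _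
    rw [mul_add ((p : M) ^ N) (E' + Y * Y * R), ← eq_of_pow_mul_eq N h3,
      ← mul_assoc ((p : M) ^ N) D Y, ← hD, sub_mul, smul_one_mul]
    abel
  have hFmono : ∀ N, F (N + 1) ⊆ F N := fun N U hU =>
    ⟨hU.1, (pow_dvd_pow _ (Nat.le_succ N)).trans hU.2⟩
  obtain ⟨U, hU⟩ := IsCompact.nonempty_iInter_of_sequence_nonempty_isCompact_isClosed F hFmono hFne
    (hFc 0).isCompact hFc
  rw [Set.mem_iInter] at hU
  obtain ⟨hU1, hUc⟩ := (hU 0).1
  have hσ : σ U = 0 := by
    ext i j
    have : ∀ N, (p : ℤ_[p]) ^ N ∣ σ U i j := fun N => (pow_dvd_iff N _).1 (hU N).2 i j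
    by_contra hne
    obtain ⟨k, hk⟩ := FiniteMultiplicity.of_prime_left PadicInt.prime_p hne
    exact hk (this _)
  have hUu : IsUnit U := by
    rw [Matrix.isUnit_iff_isUnit_det]
    refine IsUnit.of_map (PadicInt.toZMod (p := p)) _ ?_
    rw [RingHom.map_det]
    have : (PadicInt.toZMod (p := p)).mapMatrix U = 1 := by
      obtain ⟨V, hV⟩ := hU1
      rw [eq_add_of_sub_eq hV, map_add, map_mul, map_one, map_natCast,
        ← Matrix.diagonal_natCast]
      simp
    rw [this, Matrix.det_one]; exact isUnit_one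
  have hY : IsNilpotent (X * U) := by
    obtain ⟨k, hk⟩ := isNilpotent_of_trace_pow_eq_zero
      ((PadicInt.Coe.ringHom (p := p)).mapMatrix (X * U)) fun i hi => by
        rw [← map_pow]
        show Matrix.trace (((X * U) ^ i).map _) = 0
        rw [← AddMonoidHom.map_trace]
        have h1 : ((g : M) * (X * U) * (↑g⁻¹ : M)) = c • (X * U) := sub_eq_zero.1 hσ
        have h2 : Matrix.trace (((g : M) * (X * U) * (↑g⁻¹ : M)) ^ i) = Matrix.trace ((X * U) ^ i) := by
          rw [Units.conj_pow, Matrix.trace_units_conj]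
        rw [h1, _root_.smul_pow, Matrix.trace_smul, smul_eq_mul] at h2
        have h3 : (c ^ i - 1) * Matrix.trace ((X * U) ^ i) = 0 := by rw [sub_mul, h2, one_mul, sub_self]
        rcases mul_eq_zero.1 h3 with h4 | h4
        · exact absurd (eq_one_of_pow_eq_one hc hi (sub_eq_zero.1 h4)) hc1
        · rw [h4]; simp
    refine ⟨k, ?_⟩
    rw [← map_pow] at hk
    ext i j
    exact PadicInt.ext (congrArg (fun m : Matrix (Fin n) (Fin n) ℚ_[p] => m i j) hk)
  obtain ⟨k, hk⟩ := hY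
  have hXU : Commute X U := hUc.sub_left (Commute.one_left U)
  rw [hXU.mul_pow] at hk
  exact ⟨k, (hUu.pow k).mul_left_eq_zero.1 hk⟩

end GrothMonoLib
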