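import Groth.Prelude.Def_SGA7a
import Groth.Agent.InertiaPtsLib.Basic
import Groth.Agent.HensFormalLib.Basic
import Groth.Agent.GrothMonoLib.Mat

/-!
# The tame relation between inertia and the Galois group of a henselian discrete valuation field
-/

set_option autoImplicit false
set_option linter.style.haveILetI false
set_option backward.isDefEq.respectTransparency false

universe u

namespace GrothMonoLib

variable {R K Ω : Type u} [CommRing R] [IsDomain R] [IsDiscreteValuationRing R] [HenselianLocalRing R]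
  [Field K] [Algebra R K] [IsFractionRing R K] [Field Ω] [Algebra K Ω] [Algebra R Ω]
  [IsScalarTower R K Ω] [Algebra.IsAlgebraic K Ω] (W : ValuationSubring Ω)

theorem mem_iff_isIntegral (hW : SGA7.LiesOver K R W) (x : Ω) : x ∈ W ↔ IsIntegral R x := by
  have hR : ∀ r : R, algebraMap R Ω r ∈ W := fun r => by
    rw [IsScalarTower.algebraMap_apply R K Ω]; exact hW.1 r
  refine ⟨fun hx => ?_, InertiaPtsLib.mem_of_isIntegral W hR⟩
  obtain ⟨b, hb, hvb, hbx⟩ := InertiaPtsLib.exists_frac W hW hx
  haveI : IsLocalRing (integralClosure R Ω) := HensFormalLib.isLocalRing_of_integral_domain R _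
  let B := integralClosure R Ω
  let ψ : B →+* W := B.val.toRingHom.codRestrict W.toSubring
    fun c => InertiaPtsLib.mem_of_isIntegral W hR c.2
  -- the centre of `W` is the maximal ideal
  have hmax : (IsLocalRing.maximalIdeal W).comap ψ = IsLocalRing.maximalIdeal B := by
    refine IsLocalRing.eq_maximalIdeal ?_
    haveI : ((IsLocalRing.maximalIdeal W).comap ψ).IsPrime := Ideal.comap_isPrime _ _
    refine Ideal.isMaximal_of_isIntegral_of_isMaximal_comap (R := R) _ ?_
    rw [show ((IsLocalRing.maximalIdeal W).comap ψ).comap (algebraMap R B) = IsLocalRing.maximalIdeal R from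
      ((IsLocalRing.maximalIdeal.isMaximal R).eq_of_le (Ideal.comap_ne_top _ (Ideal.IsPrime.ne_top'))
        fun r hr => ?_).symm]
    · exact IsLocalRing.maximalIdeal.isMaximal R
    · show ψ (algebraMap R B r) ∈ IsLocalRing.maximalIdeal W
      rw [W.valuation_lt_one_iff]
      show W.valuation (algebraMap R Ω r) < 1
      rw [IsScalarTower.algebraMap_apply R K Ω]
      exact hW.2 r hr
  have hu : IsUnit (⟨b, hb⟩ : B) := by
    rw [← IsLocalRing.notMem_maximalIdeal, ← hmax, Ideal.mem_comap, W.valuation_lt_one_iff]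
    show ¬ W.valuation b < 1
    rw [hvb]; exact lt_irrefl 1
  obtain ⟨v, hv⟩ := isUnit_iff_exists_inv.1 hu
  have hv' : b * (v : Ω) = 1 := congrArg Subtype.val hv
  have : x = (v : Ω) * (b * x) := by rw [← mul_assoc, mul_comm (v : Ω) b, hv', one_mul]
  rw [this]
  exact v.2.mul hbx

variable {W}

theorem apply_mem (hW : SGA7.LiesOver K R W) (g : Ω ≃ₐ[K] Ω) {x : Ω} (hx : x ∈ W) : g x ∈ W :=
  (mem_iff_isIntegral W hW _).2
    (((mem_iff_isIntegral W hW x).1 hx).map ((g : Ω →ₐ[K] Ω).restrictScalars R))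

theorem val_le (hW : SGA7.LiesOver K R W) (g : Ω ≃ₐ[K] Ω) {x y : Ω}
    (h : W.valuation x ≤ W.valuation y) : W.valuation (g x) ≤ W.valuation (g y) := by
  by_cases hy : y = 0
  · subst hy
    rw [map_zero, le_zero_iff, map_eq_zero] at h
    subst h; exact le_rfl
  have h1 : W.valuation (x / y) ≤ 1 := by
    rw [map_div₀, div_le_one₀ (zero_lt_iff.2 ((map_ne_zero _).2 hy))]; exact h
  have h2 := (W.valuation_le_one_iff _).2 (apply_mem hW g ((W.valuation_le_one_iff _).1 h1))
  rwa [map_div₀, map_div₀, div_le_one₀ (zero_lt_iff.2 ((map_ne_zero _).2 ((map_ne_zero g).2 hy)))] at h2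

theorem val_lt (hW : SGA7.LiesOver K R W) (g : Ω ≃ₐ[K] Ω) {x y : Ω}
    (h : W.valuation x < W.valuation y) : W.valuation (g x) < W.valuation (g y) := by
  rcases lt_or_ge (W.valuation (g x)) (W.valuation (g y)) with h1 | h1
  · exact h1
  · have := val_le hW g.symm h1
    rw [AlgEquiv.symm_apply_apply, AlgEquiv.symm_apply_apply] at this
    exact absurd this (not_le.2 h)

theorem val_eq_of_pow_fix (hW : SGA7.LiesOver K R W) (g : Ω ≃ₐ[K] Ω) {y : Ω} {P : ℕ} (hP : 0 < P)
    (h : (g ^ P) y = y) : W.valuation (g y) = W.valuation y := by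
  have hstep : ∀ j : ℕ, (g ^ (j + 1)) y = g ((g ^ j) y) := fun j => by rw [pow_succ']; rfl
  rcases lt_trichotomy (W.valuation (g y)) (W.valuation y) with h1 | h1 | h1
  · exfalso
    have : ∀ j : ℕ, W.valuation ((g ^ (j + 1)) y) < W.valuation y := by
      intro j
      induction j with
      | zero => simpa using h1
      | succ j ih => rw [hstep]; exact (val_lt hW g ih).trans h1
    obtain ⟨j, rfl⟩ := Nat.exists_eq_succ_of_ne_zero hP.ne'
    have := this j
    rw [h] at this
    exact lt_irrefl _ this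
  · exact h1
  · exfalso
    have : ∀ j : ℕ, W.valuation y < W.valuation ((g ^ (j + 1)) y) := by
      intro j
      induction j with
      | zero => simpa using h1
      | succ j ih => rw [hstep]; exact h1.trans (val_lt hW g ih)
    obtain ⟨j, rfl⟩ := Nat.exists_eq_succ_of_ne_zero hP.ne'
    have := this j
    rw [h] at this
    exact lt_irrefl _ this

variable (W) in
/-- congruence modulo the maximal ideal, multiplicatively scaled. -/
def Close (x y : Ω) : Prop := W.valuation (x - y) < W.valuation y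

theorem Close.val_eq {x y : Ω} (h : Close W x y) : W.valuation x = W.valuation y := by
  rw [← sub_add_cancel x y]; exact Valuation.map_add_eq_of_lt_right _ h

theorem Close.symm {x y : Ω} (h : Close W x y) : Close W y x := by
  show W.valuation (y - x) < W.valuation x
  rw [Valuation.map_sub_swap, h.val_eq]; exact h

theorem Close.trans {x y z : Ω} (h : Close W x y) (h' : Close W y z) : Close W x z := by
  show W.valuation (x - z) < W.valuation z
  rw [show x - z = (x - y) + (y - z) by ring]
  exact lt_of_le_of_lt (Valuation.map_add _ _ _) (max_lt (h'.val_eq ▸ h) h')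

theorem Close.mul_left {x y : Ω} (h : Close W x y) {c : Ω} (hc : c ≠ 0) : Close W (c * x) (c * y) := by
  show W.valuation (c * x - c * y) < W.valuation (c * y)
  rw [← mul_sub, map_mul, map_mul]
  exact mul_lt_mul_of_pos_left h (zero_lt_iff.2 ((map_ne_zero _).2 hc))

theorem Close.map (hW : SGA7.LiesOver K R W) (g : Ω ≃ₐ[K] Ω) {x y : Ω} (h : Close W x y) :
    Close W (g x) (g y) := by
  show W.valuation (g x - g y) < W.valuation (g y)
  rw [← map_sub]; exact val_lt hW g h

theorem close_refl {y : Ω} (hy : y ≠ 0) : Close W y y := by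
  show W.valuation (y - y) < W.valuation y
  rw [sub_self, map_zero]; exact zero_lt_iff.2 ((map_ne_zero _).2 hy)

/-- A unit of `W` is fixed by inertia up to the maximal ideal. -/
theorem inertia_unit {σ : Ω ≃ₐ[K] Ω} (hσ : SGA7.IsInertia W σ) {x : Ω} (hx : W.valuation x = 1) :
    Close W (σ x) x := by
  show W.valuation (σ x - x) < W.valuation x
  rw [hx]; exact (hσ x ((W.valuation_le_one_iff x).1 hx.le)).2

/-- The tame character of an inertia element at `y` is a root of unity. -/
theorem exists_root (hW : SGA7.LiesOver K R W) {σ : Ω ≃ₐ[K] Ω} (hσ : SGA7.IsInertia W σ) {P : ℕ}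
    (hP : 0 < P) (hPW : W.valuation (P : Ω) = 1) [HasEnoughRootsOfUnity Ω P] {y : Ω} (hy : y ≠ 0)
    (h : (σ ^ P) y = y) : ∃ μ : Ω, μ ^ P = 1 ∧ ∀ j : ℕ, Close W ((σ ^ j) y) (μ ^ j * y) := by
  classical
  have hv := val_eq_of_pow_fix hW σ hP h
  let a := σ y / y
  have ha : W.valuation a = 1 := by
    rw [map_div₀, hv, div_self ((map_ne_zero _).2 hy)]
  have ha0 : a ≠ 0 := (map_ne_zero W.valuation).1 (by rw [ha]; exact one_ne_zero)
  have hσy : σ y = a * y := (div_mul_cancel₀ _ hy).symm
  have hpow : ∀ j : ℕ, Close W ((σ ^ j) y) (a ^ j * y) := by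
    intro j
    induction j with
    | zero => simpa using close_refl hy
    | succ j ih =>
      rw [pow_succ', AlgEquiv.mul_apply]
      refine (Close.map hW σ ih).trans ?_
      rw [map_mul, hσy, show σ (a ^ j) * (a * y) = (a * y) * σ (a ^ j) by ring,
        show a ^ (j + 1) * y = (a * y) * a ^ j by ring]
      exact (inertia_unit hσ (by rw [map_pow, ha, one_pow])).mul_left (mul_ne_zero ha0 hy)
  have h1 := hpow P
  rw [h] at h1
  have h2 : W.valuation (a ^ P - 1) < 1 := by
    have h1' : W.valuation ((1 - a ^ P) * y) < W.valuation (a ^ P * y) := by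
      rw [sub_mul, one_mul]; exact h1
    rw [map_mul, map_mul, map_pow, ha, one_pow, one_mul] at h1'
    rw [Valuation.map_sub_swap]
    calc W.valuation (1 - a ^ P)
        = W.valuation (1 - a ^ P) * W.valuation y / W.valuation y :=
          (mul_div_cancel_right₀ _ ((map_ne_zero _).2 hy)).symm
      _ < 1 := (div_lt_one₀ (zero_lt_iff.2 ((map_ne_zero _).2 hy))).2 h1'
  obtain ⟨ζ, hζ⟩ := HasEnoughRootsOfUnity.exists_primitiveRoot Ω P
  have hprod : a ^ P - 1 = ∏ μ ∈ Polynomial.nthRootsFinset P (1 : Ω), (a - μ) := by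
    have := congrArg (Polynomial.eval a) (Polynomial.X_pow_sub_one_eq_prod hP hζ)
    simpa [Polynomial.eval_prod] using this
  obtain ⟨μ, hμ, hμa⟩ : ∃ μ ∈ Polynomial.nthRootsFinset P (1 : Ω), W.valuation (a - μ) < 1 := by
    by_contra hne
    push Not at hne
    rw [hprod, map_prod] at h2
    refine absurd (Finset.one_le_prod fun μ hμ => hne μ hμ) (not_le.2 h2)
  rw [Polynomial.mem_nthRootsFinset hP] at hμ
  have hμv : W.valuation μ = 1 := by
    have := congrArg W.valuation hμ
    rw [map_pow, map_one] at this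
    exact (pow_eq_one_iff_of_nonneg zero_le hP.ne').1 this
  have hμ0 : μ ≠ 0 := (map_ne_zero W.valuation).1 (by rw [hμv]; exact one_ne_zero)
  refine ⟨μ, hμ, fun j => ?_⟩
  induction j with
  | zero => simpa using close_refl hy
  | succ j ih =>
    rw [pow_succ', AlgEquiv.mul_apply]
    refine (Close.map hW σ ih).trans ?_
    rw [map_mul, hσy, show σ (μ ^ j) * (a * y) = (a * y) * σ (μ ^ j) by ring]
    refine ((inertia_unit hσ (by rw [map_pow, hμv, one_pow])).mul_left (mul_ne_zero ha0 hy)).trans ?_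
    rw [show a * y * μ ^ j = (μ ^ j * y) * a by ring,
      show μ ^ (j + 1) * y = (μ ^ j * y) * μ by ring]
    exact Close.mul_left (show W.valuation (a - μ) < W.valuation μ by rw [hμv]; exact hμa)
      (mul_ne_zero (pow_ne_zero _ hμ0) hy)

/-- The tame relation, on one element. -/
theorem tame_relation (hW : SGA7.LiesOver K R W) {g σ : Ω ≃ₐ[K] Ω} (hσ : SGA7.IsInertia W σ) {P d : ℕ}
    (hP : 0 < P) (hPW : W.valuation (P : Ω) = 1) [HasEnoughRootsOfUnity Ω P] {y : Ω} (hy : y ≠ 0)
    (hgy : (g⁻¹ ^ P) y = y) (hσy : (σ ^ P) y = y) (hd : ∀ t : Ω, t ^ P = 1 → g t = t ^ d) :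
    Close W (((σ ^ d)⁻¹ * (g * σ * g⁻¹)) y) y := by
  obtain ⟨μ, hμ, hpow⟩ := exists_root hW hσ hP hPW hy hσy
  let y' := g⁻¹ y
  have hy' : y' ≠ 0 := (map_ne_zero _).2 hy
  have hu : W.valuation (y' / y) = 1 := by
    rw [map_div₀, val_eq_of_pow_fix hW g⁻¹ hP hgy, div_self ((map_ne_zero _).2 hy)]
  have h1 : Close W (σ y') (μ * y') := by
    have e : y' = (y' / y) * y := (div_mul_cancel₀ _ hy).symm
    have hu0 : y' / y ≠ 0 := div_ne_zero hy' hy
    have h2 := hpow 1
    rw [pow_one, pow_one] at h2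
    rw [e, map_mul]
    refine (h2.mul_left ((map_ne_zero _).2 hu0)).trans ?_
    rw [show σ (y' / y) * (μ * y) = (μ * y) * σ (y' / y) by ring,
      show μ * (y' / y * y) = (μ * y) * (y' / y) by ring]
    exact (inertia_unit hσ hu).mul_left
      (mul_ne_zero (fun h => by rw [h, zero_pow hP.ne'] at hμ; exact zero_ne_one hμ) hy)
  have h2 := Close.map hW g h1
  rw [map_mul, hd μ hμ] at h2
  have hgg : g y' = y := AlgEquiv.apply_symm_apply g y
  rw [hgg] at h2
  have h3 := Close.map hW (σ ^ d)⁻¹ (h2.trans (hpow d).symm)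
  have hdd : (σ ^ d)⁻¹ ((σ ^ d) y) = y := AlgEquiv.symm_apply_apply _ y
  rw [hdd] at h3
  exact h3

/-- An automorphism of `p`-power order congruent to one is trivial. -/
theorem eq_of_close (hW : SGA7.LiesOver K R W) {p : ℕ} (hp : 0 < p) (hpW : W.valuation (p : Ω) = 1)
    (e : Ω ≃ₐ[K] Ω) (L : IntermediateField K Ω) (heL : ∀ y ∈ L, e y ∈ L)
    (hclose : ∀ y ∈ L, y ≠ 0 → Close W (e y) y) :
    ∀ (a : ℕ), (∀ y ∈ L, (e ^ p ^ a) y = y) → ∀ y ∈ L, e y = y := by
  have hmem : ∀ (j : ℕ), ∀ y ∈ L, (e ^ j) y ∈ L := by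
    intro j
    induction j with
    | zero => exact fun y hy => hy
    | succ j ih => exact fun y hy => by rw [pow_succ', AlgEquiv.mul_apply]; exact heL _ (ih y hy)
  have hcl : ∀ (j : ℕ), ∀ y ∈ L, y ≠ 0 → Close W ((e ^ j) y) y := by
    intro j
    induction j with
    | zero => exact fun y _ hy => close_refl hy
    | succ j ih =>
      intro y hy hy0
      rw [pow_succ', AlgEquiv.mul_apply]
      exact (Close.map hW e (ih y hy hy0)).trans (hclose y hy hy0)
  intro a
  induction a with
  | zero => intro h y hy; simpa using h y hy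
  | succ a ih =>
    intro h
    refine ih fun y hy => ?_
    set f := e ^ p ^ a
    have hf : (f ^ p) y = y := by rw [← pow_mul, ← pow_succ]; exact h y hy
    let z := f y - y
    have hzL : z ∈ L := sub_mem (hmem _ y hy) hy
    by_contra hne
    have hz : z ≠ 0 := sub_ne_zero.2 hne
    have hsum : ∑ j ∈ Finset.range p, (f ^ j) z = 0 := by
      have : ∀ j : ℕ, (f ^ j) z = (f ^ (j + 1)) y - (f ^ j) y := fun j => by
        rw [map_sub, pow_succ, AlgEquiv.mul_apply]
      rw [Finset.sum_congr rfl (fun j _ => this j), Finset.sum_range_sub (fun j => (f ^ j) y), hf,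
        pow_zero, AlgEquiv.one_apply, sub_self]
    have h2 : W.valuation (∑ j ∈ Finset.range p, ((f ^ j) z - z)) < W.valuation z := by
      refine W.valuation.map_sum_lt ((map_ne_zero _).2 hz) fun j _ => ?_
      show W.valuation ((f ^ j) z - z) < W.valuation z
      rw [← pow_mul]
      exact hcl _ z hzL hz
    rw [Finset.sum_sub_distrib, hsum, zero_sub, Valuation.map_neg, Finset.sum_const,
      Finset.card_range, nsmul_eq_mul, map_mul, hpW, one_mul] at h2
    exact lt_irrefl _ h2

end GrothMonoLib
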